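import Groth.Agent.RDerLib.Basic
import Groth.Agent.S15302
/-!
The horseshoe lemma and the long exact sequence of right derived functors.
-/

set_option autoImplicit false
set_option backward.isDefEq.respectTransparency false

universe v u v' u'

open CategoryTheory CategoryTheory.Limits HomologicalComplex

noncomputable section

namespace Groth.Agent.RDerLib

variable {C : Type u} [Category.{v} C] [Abelian C] [EnoughInjectives C]

/-- Every short exact sequence has a resolution. -/
theorem nonempty_sesRes (S : ShortComplex C) (hS : S.ShortExact) : Nonempty (RDer.SESRes S) := by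
  haveI := hS.mono_f
  haveI := hS.epi_g
  let I₃ : InjectiveResolution S.X₃ := InjectiveResolution.of S.X₃
  obtain ⟨J, β, hβ, hsplit⟩ := S15302.result S.g I₃
  have hsec : ∀ p, ∃ s : I₃.cocomplex.X p ⟶ J.cocomplex.X p, s ≫ β.f p = 𝟙 _ := fun p => by
    obtain ⟨K, e, he⟩ := hsplit p
    exact ⟨biprod.inl ≫ e.inv, by rw [he, Category.assoc, e.inv_hom_id_assoc, biprod.inl_fst]⟩
  choose s hs using hsec
  haveI : ∀ p, Epi (β.f p) := fun p => epi_of_epi_fac (hs p)
  haveI : Epi β := HomologicalComplex.epi_of_epi_f β inferInstance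
  let K : CochainComplex C ℕ := kernel β
  let i : K ⟶ J.cocomplex := kernel.ι β
  have hK : (ShortComplex.mk i β (kernel.condition β)).ShortExact :=
    ShortComplex.ShortExact.mk' (ShortComplex.exact_of_f_is_kernel _ (kernelIsKernel β)) inferInstance inferInstance
  have hKn : ∀ n, ((ShortComplex.mk i β (kernel.condition β)).map (HomologicalComplex.eval C _ n)).ShortExact :=
    fun n => hK.map_of_exact (HomologicalComplex.eval C _ n)
  haveI : ∀ n, Mono (i.f n) := fun n => (hKn n).mono_f
  haveI : ∀ n, Mono ((ShortComplex.mk i β (kernel.condition β)).map (HomologicalComplex.eval C _ n)).f :=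
    fun n => (hKn n).mono_f
  haveI hinj : ∀ n, Injective (K.X n) := fun n => by
    haveI : Injective (J.cocomplex.X n) := J.injective n
    constructor
    intro A B g f _
    obtain ⟨l, hl⟩ := Injective.factors (g ≫ i.f n) f
    have hw : (l - (l ≫ β.f n) ≫ s n) ≫ β.f n = 0 := by
      rw [Preadditive.sub_comp, Category.assoc, Category.assoc, hs, Category.comp_id, sub_self]
    refine ⟨(hKn n).exact.lift (l - (l ≫ β.f n) ≫ s n) hw, ?_⟩
    rw [← cancel_mono (i.f n), Category.assoc]
    have h1 : (hKn n).exact.lift (l - (l ≫ β.f n) ≫ s n) hw ≫ i.f n = l - (l ≫ β.f n) ≫ s n :=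
      (hKn n).exact.lift_f _ hw
    rw [h1, Preadditive.comp_sub, hl, ← Category.assoc, ← Category.assoc f, hl]
    have h2 : i.f n ≫ β.f n = 0 := by rw [← HomologicalComplex.comp_f, kernel.condition]; rfl
    rw [Category.assoc g, h2, comp_zero, zero_comp, sub_zero]
  have hβ0 : J.ι.f 0 ≫ β.f 0 = S.g ≫ I₃.ι.f 0 := by
    have h := congrArg (fun ψ => HomologicalComplex.Hom.f ψ 0) hβ
    simpa using h
  have hz : (S.f ≫ J.ι.f 0) ≫ β.f 0 = 0 := by rw [Category.assoc, hβ0, S.zero_assoc, zero_comp]
  let ι₀ : S.X₁ ⟶ K.X 0 := (hKn 0).exact.lift (S.f ≫ J.ι.f 0) hz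
  have hι₀ : ι₀ ≫ i.f 0 = S.f ≫ J.ι.f 0 := (hKn 0).exact.lift_f _ _
  have hι₀d : ι₀ ≫ K.d 0 1 = 0 := by
    rw [← cancel_mono (i.f 1), Category.assoc, ← i.comm 0 1, ← Category.assoc, hι₀, zero_comp, Category.assoc,
      J.ι_f_zero_comp_complex_d, comp_zero]
  let ι₁ : (CochainComplex.single₀ C).obj S.X₁ ⟶ K :=
    (CochainComplex.fromSingle₀Equiv _ _).symm ⟨ι₀, hι₀d⟩
  haveI hepi : Epi (homologyMap β 0) := (epi_homologyMap_iff hβ).2 inferInstance
  have hq : QuasiIso ι₁ := ⟨fun n => by
    cases n with
    | zero =>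
      rw [CochainComplex.quasiIsoAt₀_iff, ShortComplex.quasiIso_iff_of_zeros]
      · haveI : Mono ι₀ := by
          haveI : Mono (ι₀ ≫ i.f 0) := hι₀.symm ▸ mono_comp _ _
          exact mono_of_mono ι₀ (i.f 0)
        refine (ShortComplex.exact_and_mono_f_iff_of_iso ?_).2
          (show (ShortComplex.mk ι₀ (K.d 0 1) hι₀d).Exact ∧ Mono ι₀ from ⟨?_, inferInstance⟩)
        · exact ShortComplex.isoMk (Iso.refl _) (Iso.refl _) (Iso.refl _) (by simp [ι₁]) (by simp)
        · rw [ShortComplex.exact_iff_exact_up_to_refinements]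
          intro A x hx
          change A ⟶ K.X 0 at x
          change x ≫ K.d 0 1 = 0 at hx
          have h1 : (x ≫ i.f 0) ≫ J.cocomplex.d 0 1 = 0 := by
            rw [Category.assoc, i.comm 0 1, ← Category.assoc, hx, zero_comp]
          obtain ⟨y, hy⟩ := KernelFork.IsLimit.lift' J.isLimitKernelFork (x ≫ i.f 0) h1
          change y ≫ J.ι.f 0 = x ≫ i.f 0 at hy
          have h2 : i.f 0 ≫ β.f 0 = 0 := by rw [← HomologicalComplex.comp_f, kernel.condition]; rfl
          have h3 : y ≫ S.g = 0 := by
            rw [← cancel_mono (I₃.ι.f 0), Category.assoc, ← hβ0, ← Category.assoc, hy, Category.assoc, h2,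
              comp_zero, zero_comp]
          refine ⟨A, 𝟙 A, inferInstance, hS.exact.lift y h3, ?_⟩
          show 𝟙 A ≫ x = hS.exact.lift y h3 ≫ ι₀
          rw [Category.id_comp, ← cancel_mono (i.f 0), Category.assoc, hι₀, ← Category.assoc,
            hS.exact.lift_f, hy]
      all_goals first | rfl | exact K.shape _ _ (by simp)
    | succ m =>
      rw [quasiIsoAt_iff_exactAt _ _ (CochainComplex.exactAt_succ_single_obj _ _)]
      refine hK.exactAt_X₁ (m + 1) ?_ fun l hl => ?_
      · constructor
        intro Z a b _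
        exact ((exactAt_iff_isZero_homology _ _).1 (J.cocomplex_exactAt_succ m)).eq_of_tgt _ _
      · obtain rfl : l = m := Nat.succ_injective hl
        cases l with
        | zero => exact hepi
        | succ p =>
          constructor
          intro Z a b _
          exact ((exactAt_iff_isZero_homology _ _).1 (I₃.cocomplex_exactAt_succ p)).eq_of_src _ _⟩
  exact ⟨{ I₁ := { cocomplex := K, ι := ι₁, injective := hinj, quasiIso := hq }
           I₂ := J
           I₃ := I₃
           f := i
           g := β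
           zero := kernel.condition β
           ι_f := by
             refine HomologicalComplex.from_single_hom_ext ?_
             simp [ι₁]
             exact hι₀
           ι_g := hβ
           shortExact := hK }⟩

variable {D : Type u'} [Category.{v'} D] [Abelian D] (F : C ⥤ D) [F.Additive]

theorem nonempty_derivedLES : Nonempty (RDer.DerivedLES F) := by
  classical
  let res' : ∀ (S : ShortComplex C), S.ShortExact → RDer.SESRes S := fun S hS => (nonempty_sesRes S hS).some
  have key : ∀ (S : ShortComplex C) (hS : S.ShortExact) (T : RDer.SESRes S) (n₀ n₁ : ℕ) (h : n₀ + 1 = n₁),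
      (res' S hS).delta F n₀ n₁ h = T.delta F n₀ n₁ h := fun S hS T n₀ n₁ h => by
    have h' := delta_natural F (𝟙 S) (res' S hS) T n₀ n₁ h
    rw [ShortComplex.id_τ₁, ShortComplex.id_τ₃, CategoryTheory.Functor.map_id, CategoryTheory.Functor.map_id,
      Category.comp_id, Category.id_comp] at h'
    exact h'.symm
  have natf : ∀ {S : ShortComplex C} (T : RDer.SESRes S) (n : ℕ),
      (F.rightDerived n).map S.f ≫ (T.I₂.isoRightDerivedObj F n).hom =
        (T.I₁.isoRightDerivedObj F n).hom ≫ homologyMap ((F.mapHomologicalComplex _).map T.f) n :=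
    fun T n => InjectiveResolution.isoRightDerivedObj_hom_naturality _ T.I₁ T.I₂ T.f (by
      have h := congrArg (fun ψ => HomologicalComplex.Hom.f ψ 0) T.ι_f
      simpa using h) F n
  have natg : ∀ {S : ShortComplex C} (T : RDer.SESRes S) (n : ℕ),
      (F.rightDerived n).map S.g ≫ (T.I₃.isoRightDerivedObj F n).hom =
        (T.I₂.isoRightDerivedObj F n).hom ≫ homologyMap ((F.mapHomologicalComplex _).map T.g) n :=
    fun T n => InjectiveResolution.isoRightDerivedObj_hom_naturality _ T.I₂ T.I₃ T.g (by
      have h := congrArg (fun ψ => HomologicalComplex.Hom.f ψ 0) T.ι_g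
      simpa using h) F n
  have c3 : ∀ {S : ShortComplex C} (T : RDer.SESRes S) (n₀ n₁ : ℕ) (h : n₀ + 1 = n₁),
      (F.rightDerived n₀).map S.g ≫ T.delta F n₀ n₁ h = 0 := fun T n₀ n₁ h => by
    rw [← cancel_mono (T.I₁.isoRightDerivedObj F n₁).hom, zero_comp, Category.assoc,
      RDer.SESRes.delta_comp_isoRightDerivedObj_hom, ← Category.assoc, natg T n₀, Category.assoc]
    exact (congrArg ((T.I₂.isoRightDerivedObj F n₀).hom ≫ ·) ((T.map_shortExact F).comp_δ n₀ n₁ h)).trans comp_zero
  have c1 : ∀ {S : ShortComplex C} (T : RDer.SESRes S) (n₀ n₁ : ℕ) (h : n₀ + 1 = n₁),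
      T.delta F n₀ n₁ h ≫ (F.rightDerived n₁).map S.f = 0 := fun T n₀ n₁ h => by
    rw [← cancel_mono (T.I₂.isoRightDerivedObj F n₁).hom, zero_comp, Category.assoc, natf T n₁,
      RDer.SESRes.delta_comp_isoRightDerivedObj_hom_assoc]
    refine (Category.assoc _ _ _).trans ?_
    exact (congrArg ((T.I₃.isoRightDerivedObj F n₀).hom ≫ ·) ((T.map_shortExact F).δ_comp n₀ n₁ h)).trans comp_zero
  exact ⟨{
    δ := fun S hS n₀ n₁ h => (res' S hS).delta F n₀ n₁ h
    δ_eq := key
    δ_natural := fun hS hS' φ n₀ n₁ h => delta_natural F φ _ _ n₀ n₁ h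
    exact₂ := fun S hS n => ShortComplex.exact_of_iso
      (ShortComplex.isoMk ((res' S hS).I₁.isoRightDerivedObj F n).symm ((res' S hS).I₂.isoRightDerivedObj F n).symm
        ((res' S hS).I₃.isoRightDerivedObj F n).symm
        (by
          rw [← cancel_mono ((res' S hS).I₂.isoRightDerivedObj F n).hom, Category.assoc, natf]
          simp)
        (by
          rw [← cancel_mono ((res' S hS).I₃.isoRightDerivedObj F n).hom, Category.assoc, natg]
          simp))
      (((res' S hS).map_shortExact F).homology_exact₂ n)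
    comp_δ := fun S hS n₀ n₁ h => c3 _ n₀ n₁ h
    exact₃ := fun S hS n₀ n₁ h => ShortComplex.exact_of_iso
      (ShortComplex.isoMk ((res' S hS).I₂.isoRightDerivedObj F n₀).symm ((res' S hS).I₃.isoRightDerivedObj F n₀).symm
        ((res' S hS).I₁.isoRightDerivedObj F n₁).symm
        (by
          rw [← cancel_mono ((res' S hS).I₃.isoRightDerivedObj F n₀).hom, Category.assoc, natg]
          simp)
        (by
          rw [← cancel_mono ((res' S hS).I₁.isoRightDerivedObj F n₁).hom, Category.assoc,
            RDer.SESRes.delta_comp_isoRightDerivedObj_hom]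
          simp))
      (((res' S hS).map_shortExact F).homology_exact₃ n₀ n₁ h)
    δ_comp := fun S hS n₀ n₁ h => c1 _ n₀ n₁ h
    exact₁ := fun S hS n₀ n₁ h => ShortComplex.exact_of_iso
      (ShortComplex.isoMk ((res' S hS).I₃.isoRightDerivedObj F n₀).symm ((res' S hS).I₁.isoRightDerivedObj F n₁).symm
        ((res' S hS).I₂.isoRightDerivedObj F n₁).symm
        (by
          rw [← cancel_mono ((res' S hS).I₁.isoRightDerivedObj F n₁).hom, Category.assoc,
            RDer.SESRes.delta_comp_isoRightDerivedObj_hom]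
          simp)
        (by
          rw [← cancel_mono ((res' S hS).I₂.isoRightDerivedObj F n₁).hom, Category.assoc, natf]
          simp))
      (((res' S hS).map_shortExact F).homology_exact₁ n₀ n₁ h) }⟩

end Groth.Agent.RDerLib
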