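import Groth.Prelude.Def_RDerDelta
import Mathlib.CategoryTheory.Abelian.Injective.Resolution
import Mathlib.Algebra.Homology.HomologySequenceLemmas
/-!
Morphisms of resolutions of short complexes, and the connecting morphisms they compute.
-/

set_option autoImplicit false
set_option backward.isDefEq.respectTransparency false

universe v u v' u'

open CategoryTheory CategoryTheory.Limits HomologicalComplex

noncomputable section

namespace Groth.Agent.RDerLib

variable {C : Type u} [Category.{v} C] [Abelian C]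

theorem epi_homologyMap_single {X Y : C} (f : X ⟶ Y) :
    Epi (homologyMap ((CochainComplex.single₀ C).map f) 0) ↔ Epi f := by
  have h : f = (singleObjHomologySelfIso (ComplexShape.up ℕ) 0 X).inv ≫
      homologyMap ((CochainComplex.single₀ C).map f) 0 ≫ (singleObjHomologySelfIso (ComplexShape.up ℕ) 0 Y).hom := by
    rw [singleObjHomologySelfIso_hom_naturality, Iso.inv_hom_id_assoc]
  refine ⟨fun _ => by rw [h]; infer_instance, fun _ => ?_⟩
  have h2 : homologyMap ((CochainComplex.single₀ C).map f) 0 =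
      (singleObjHomologySelfIso (ComplexShape.up ℕ) 0 X).hom ≫ f ≫
        (singleObjHomologySelfIso (ComplexShape.up ℕ) 0 Y).inv := by
    rw [← singleObjHomologySelfIso_inv_naturality, Iso.hom_inv_id_assoc]
  rw [h2]
  infer_instance

/-- `H⁰` of a map lying over `f` is epi iff `f` is. -/
theorem epi_homologyMap_iff {X Y : C} {f : X ⟶ Y} {I : InjectiveResolution X} {J : InjectiveResolution Y}
    {φ : I.cocomplex ⟶ J.cocomplex} (w : I.ι ≫ φ = (CochainComplex.single₀ C).map f ≫ J.ι) :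
    Epi (homologyMap φ 0) ↔ Epi f := by
  have h : homologyMap I.ι 0 ≫ homologyMap φ 0 =
      homologyMap ((CochainComplex.single₀ C).map f) 0 ≫ homologyMap J.ι 0 := by
    rw [← homologyMap_comp, w, homologyMap_comp]
  rw [← epi_homologyMap_single f]
  constructor
  · intro hφ
    haveI : Epi (homologyMap ((CochainComplex.single₀ C).map f) 0 ≫ homologyMap J.ι 0) := h ▸ epi_comp _ _
    have e : homologyMap ((CochainComplex.single₀ C).map f) 0 =
        (homologyMap ((CochainComplex.single₀ C).map f) 0 ≫ homologyMap J.ι 0) ≫ inv (homologyMap J.ι 0) := by simp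
    rw [e]
    infer_instance
  · intro hf
    haveI : Epi (homologyMap I.ι 0 ≫ homologyMap φ 0) := h.symm ▸ epi_comp _ _
    exact epi_of_epi (homologyMap I.ι 0) _

theorem epi_g {S : ShortComplex C} (T : RDer.SESRes S) : Epi S.g := by
  rw [← epi_homologyMap_iff T.ι_g]
  have h : (ComplexShape.up ℕ).Rel 0 1 := rfl
  refine (T.shortExact.homology_exact₃ 0 1 h).epi_f ?_
  exact ((exactAt_iff_isZero_homology _ _).1 (T.I₁.cocomplex_exactAt_succ 0)).eq_of_tgt _ _

/-- A morphism of resolutions lying over a morphism of short complexes. -/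
theorem exists_lift {S S' : ShortComplex C} (φ : S ⟶ S') (T : RDer.SESRes S) (T' : RDer.SESRes S') :
    ∃ Φ : T.cx ⟶ T'.cx, T.I₁.ι.f 0 ≫ Φ.τ₁.f 0 = φ.τ₁ ≫ T'.I₁.ι.f 0 ∧
      T.I₃.ι.f 0 ≫ Φ.τ₃.f 0 = φ.τ₃ ≫ T'.I₃.ι.f 0 := by
  let a : T.I₁.cocomplex ⟶ T'.I₁.cocomplex := InjectiveResolution.desc φ.τ₁ T'.I₁ T.I₁
  let b : T.I₂.cocomplex ⟶ T'.I₂.cocomplex := InjectiveResolution.desc φ.τ₂ T'.I₂ T.I₂
  have ha : T.I₁.ι ≫ a = (CochainComplex.single₀ C).map φ.τ₁ ≫ T'.I₁.ι :=
    InjectiveResolution.desc_commutes _ _ _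
  have hb : T.I₂.ι ≫ b = (CochainComplex.single₀ C).map φ.τ₂ ≫ T'.I₂.ι :=
    InjectiveResolution.desc_commutes _ _ _
  let h : Homotopy (a ≫ T'.f) (T.f ≫ b) := InjectiveResolution.descHomotopy (φ.τ₁ ≫ S'.f) _ _
    (by rw [← Category.assoc, ha, Category.assoc, T'.ι_f, Functor.map_comp, Category.assoc])
    (by rw [← Category.assoc, T.ι_f, Category.assoc, hb, ← Category.assoc, ← Functor.map_comp, φ.comm₁₂])
  let H : ∀ i j, T.I₂.cocomplex.X i ⟶ T'.I₂.cocomplex.X j := fun i j => (T.splitting i).r ≫ h.hom i j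
  have hH : ∀ i j, T.f.f i ≫ H i j = h.hom i j := fun i j => by
    show T.f.f i ≫ (T.splitting i).r ≫ h.hom i j = _
    have e : T.f.f i ≫ (T.splitting i).r = 𝟙 _ := (T.splitting i).f_r
    rw [← Category.assoc, e, Category.id_comp]
  let b' : T.I₂.cocomplex ⟶ T'.I₂.cocomplex := b + Homotopy.nullHomotopicMap H
  have hfb : T.f ≫ b' = a ≫ T'.f := by
    show T.f ≫ (b + Homotopy.nullHomotopicMap H) = _
    rw [Preadditive.comp_add, Homotopy.comp_nullHomotopicMap,
      show (fun i j => T.f.f i ≫ H i j) = h.hom from funext fun i => funext fun j => hH i j]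
    ext n
    rw [HomologicalComplex.add_f_apply, h.comm n, add_comm]
    rfl
  haveI := T.shortExact.epi_g
  let c : T.I₃.cocomplex ⟶ T'.I₃.cocomplex := T.shortExact.gIsCokernel.desc (CokernelCofork.ofπ (b' ≫ T'.g) (by
    show T.f ≫ b' ≫ T'.g = 0
    rw [← Category.assoc, hfb, Category.assoc, T'.zero, comp_zero]))
  have hc : T.g ≫ c = b' ≫ T'.g := T.shortExact.gIsCokernel.fac _ WalkingParallelPair.one
  refine ⟨⟨a, b', c, hfb.symm, hc.symm⟩, ?_, ?_⟩
  · exact InjectiveResolution.desc_commutes_zero φ.τ₁ T'.I₁ T.I₁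
  · haveI := epi_g T
    have hN : T.I₂.ι.f 0 ≫ (Homotopy.nullHomotopicMap H).f 0 = 0 := by
      rw [Homotopy.nullHomotopicMap_f_of_not_rel_right (show (ComplexShape.up ℕ).Rel 0 1 from rfl)
        (fun l => Nat.succ_ne_zero l), ← Category.assoc, T.I₂.ι_f_zero_comp_complex_d, zero_comp]
    have hb' : T.I₂.ι.f 0 ≫ b'.f 0 = φ.τ₂ ≫ T'.I₂.ι.f 0 := by
      show T.I₂.ι.f 0 ≫ (b.f 0 + (Homotopy.nullHomotopicMap H).f 0) = _
      rw [Preadditive.comp_add, hN, add_zero]
      exact InjectiveResolution.desc_commutes_zero φ.τ₂ T'.I₂ T.I₂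
    have g0 : ∀ {S : ShortComplex C} (T : RDer.SESRes S), T.I₂.ι.f 0 ≫ T.g.f 0 = S.g ≫ T.I₃.ι.f 0 := fun T => by
      have h := congrArg (fun ψ => HomologicalComplex.Hom.f ψ 0) T.ι_g
      simpa using h
    have hc0 : T.g.f 0 ≫ c.f 0 = b'.f 0 ≫ T'.g.f 0 := congrArg (fun ψ => HomologicalComplex.Hom.f ψ 0) hc
    rw [← cancel_epi S.g, ← Category.assoc, ← g0 T, Category.assoc, hc0, ← Category.assoc, hb', Category.assoc,
      g0 T', ← Category.assoc, φ.comm₂₃, Category.assoc]

variable {D : Type u'} [Category.{v'} D] [Abelian D] [HasInjectiveResolutions C] (F : C ⥤ D) [F.Additive]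

/-- Naturality of the connecting morphisms computed from resolutions. -/
theorem delta_natural {S S' : ShortComplex C} (φ : S ⟶ S') (T : RDer.SESRes S) (T' : RDer.SESRes S')
    (n₀ n₁ : ℕ) (h : n₀ + 1 = n₁) :
    (F.rightDerived n₀).map φ.τ₃ ≫ T'.delta F n₀ n₁ h = T.delta F n₀ n₁ h ≫ (F.rightDerived n₁).map φ.τ₁ := by
  obtain ⟨Φ, h1, h3⟩ := exists_lift φ T T'
  rw [← cancel_mono (T'.I₁.isoRightDerivedObj F n₁).hom, Category.assoc, Category.assoc,
    RDer.SESRes.delta_comp_isoRightDerivedObj_hom,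
    InjectiveResolution.isoRightDerivedObj_hom_naturality φ.τ₁ T.I₁ T'.I₁ Φ.τ₁ h1 F n₁,
    RDer.SESRes.delta_comp_isoRightDerivedObj_hom_assoc, ← Category.assoc,
    InjectiveResolution.isoRightDerivedObj_hom_naturality φ.τ₃ T.I₃ T'.I₃ Φ.τ₃ h3 F n₀, Category.assoc]
  exact (congrArg ((T.I₃.isoRightDerivedObj F n₀).hom ≫ ·) (HomologicalComplex.HomologySequence.δ_naturality
    ((F.mapHomologicalComplex (ComplexShape.up ℕ)).mapShortComplex.map Φ)
    (T.map_shortExact F) (T'.map_shortExact F) n₀ n₁ h).symm).trans (Category.assoc _ _ _).symm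

end Groth.Agent.RDerLib
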